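import Mathlib

/-!
# Integer-valued rational polynomials (helper27)

`lemmaA`: a rational polynomial of degree `≤ g` taking integer values at `g+1` consecutive integers
has `g! • P` integral (Newton's forward-difference basis).

`core`: if `b^{2g} Q(a/b)` is a (natural) integer for all fractions `a/b` in an open interval,
`deg Q ≤ g`, then `g! • Q` has integer coefficients.
-/

open Polynomial Finset

namespace Groth.Agent.Lib27.Arith

/-- the subring of integers inside `ℚ`. -/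
abbrev ZZ : Subring ℚ := (Int.castRingHom ℚ).range

theorem mem_ZZ_iff (x : ℚ) : x ∈ ZZ ↔ ∃ z : ℤ, x = (z : ℚ) := by
  constructor
  · rintro ⟨z, rfl⟩; exact ⟨z, rfl⟩
  · rintro ⟨z, rfl⟩; exact ⟨z, rfl⟩

theorem lemmaA (g : ℕ) (P : ℚ[X]) (hP : P.natDegree ≤ g) (m : ℤ)
    (hint : ∀ i : ℕ, i ≤ g → P.eval ((m : ℚ) + i) ∈ ZZ) :
    ∃ R : ℤ[X], R.map (Int.castRingHom ℚ) = C (g.factorial : ℚ) * P := by
  classical
  have hΔ : ∀ k : ℕ, k ≤ g → (fwdDiff (1 : ℚ))^[k] P.eval (m : ℚ) ∈ ZZ := by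
    intro k hk
    rw [fwdDiff_iter_eq_sum_shift]
    refine Subring.sum_mem _ fun j hj => ?_
    refine Subring.zsmul_mem _ ?_ _
    have hj' : j ≤ g := by have := mem_range.1 hj; omega
    simpa using hint j hj'
  have hΔ' : ∀ k : ℕ, ∃ z : ℤ, k ≤ g → (fwdDiff (1 : ℚ))^[k] P.eval (m : ℚ) = (z : ℚ) := by
    intro k
    by_cases hk : k ≤ g
    · obtain ⟨z, hz⟩ := (mem_ZZ_iff _).1 (hΔ k hk)
      exact ⟨z, fun _ => hz⟩
    · exact ⟨0, fun h => absurd h hk⟩
  choose z hz using hΔ'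
  have hvan : ∀ k : ℕ, g < k → (fwdDiff (1 : ℚ))^[k] P.eval (m : ℚ) = 0 := by
    intro k hk
    rw [Polynomial.fwdDiff_iter_eq_zero_of_degree_lt (lt_of_le_of_lt hP hk)]
    rfl
  -- the Newton expansion as a polynomial identity
  set T : ℚ[X] := ∑ k ∈ range (g + 1), C ((z k : ℚ) / (k.factorial : ℚ)) * descPochhammer ℚ k with hTdef
  have hT : P.comp (X + C (m : ℚ)) = T := by
    apply eq_of_infinite_eval_eq
    apply Set.Infinite.mono (s := Set.range (fun n : ℕ => (n : ℚ)))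
    · rintro _ ⟨n, rfl⟩
      show eval (n : ℚ) (P.comp (X + C (m : ℚ))) = eval (n : ℚ) T
      rw [eval_comp]
      simp only [eval_add, eval_X, eval_C]
      have h1 := shift_eq_sum_fwdDiff_iter (1 : ℚ) P.eval n (m : ℚ)
      rw [nsmul_eq_mul, mul_one] at h1
      rw [add_comm, h1, hTdef, eval_finset_sum]
      have e1 : ∑ k ∈ range (n + 1), n.choose k • (fwdDiff (1 : ℚ))^[k] P.eval (m : ℚ)
          = ∑ k ∈ range (n + g + 1), n.choose k • (fwdDiff (1 : ℚ))^[k] P.eval (m : ℚ) := by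
        apply Finset.sum_subset (Finset.range_subset_range.2 (by omega))
        intro k _ hk
        have : n < k := by
          by_contra hcon
          exact hk (mem_range.2 (by omega))
        rw [Nat.choose_eq_zero_of_lt this, zero_smul]
      have e2 : ∑ k ∈ range (g + 1), eval (n : ℚ) (C ((z k : ℚ) / (k.factorial : ℚ)) * descPochhammer ℚ k)
          = ∑ k ∈ range (n + g + 1), n.choose k • (fwdDiff (1 : ℚ))^[k] P.eval (m : ℚ) := by
        rw [← Finset.sum_subset (Finset.range_subset_range.2 (by omega : g + 1 ≤ n + g + 1))]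
        · apply Finset.sum_congr rfl
          intro k hk
          have hk' : k ≤ g := by have := mem_range.1 hk; omega
          rw [eval_mul, eval_C, descPochhammer_eval_eq_descFactorial,
            Nat.descFactorial_eq_factorial_mul_choose, hz k hk', nsmul_eq_mul]
          have hk0 : (k.factorial : ℚ) ≠ 0 := by exact_mod_cast k.factorial_ne_zero
          push_cast
          field_simp
        · intro k _ hk
          have : g < k := by
            by_contra hcon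
            exact hk (mem_range.2 (by omega))
          rw [hvan k this, smul_zero]
      rw [e1, e2]
    · exact Set.infinite_range_of_injective Nat.cast_injective
  -- integral version of `g! • T`
  let T' : ℤ[X] := ∑ k ∈ range (g + 1), C (((g.factorial / k.factorial : ℕ) : ℤ) * z k) * descPochhammer ℤ k
  have hT' : T'.map (Int.castRingHom ℚ) = C (g.factorial : ℚ) * T := by
    simp only [T', hTdef, Polynomial.map_sum, Finset.mul_sum]
    apply Finset.sum_congr rfl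
    intro k hk
    have hk' : k ≤ g := by have := mem_range.1 hk; omega
    rw [Polynomial.map_mul, descPochhammer_map, Polynomial.map_C, ← mul_assoc, ← C_mul]
    congr 2
    have hk0 : (k.factorial : ℚ) ≠ 0 := by exact_mod_cast k.factorial_ne_zero
    have hdvd : k.factorial ∣ g.factorial := Nat.factorial_dvd_factorial hk'
    simp only [eq_intCast, Int.cast_mul, Int.cast_natCast]
    rw [Nat.cast_div hdvd hk0]
    field_simp
  refine ⟨T'.comp (X - C m), ?_⟩
  rw [Polynomial.map_comp, hT', ← hT]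
  simp only [Polynomial.map_sub, Polynomial.map_X, Polynomial.map_C, mul_comp, C_comp,
    comp_assoc, add_comp, X_comp]
  rw [show (Int.castRingHom ℚ) m = (m : ℚ) from rfl, sub_add_cancel, comp_X]

/-- one denominator `b`: `g! * c_j * b^(2g-j)` is an integer. -/
theorem core_step (g : ℕ) (u v : ℚ) (Q : ℚ[X]) (hQ : Q.natDegree ≤ g) (N : ℤ → ℕ → ℕ)
    (hpoly : ∀ (a : ℤ) (b : ℕ), 0 < b → u < (a : ℚ) / (b : ℚ) → (a : ℚ) / (b : ℚ) < v →
      ((N a b : ℕ) : ℚ) / (b : ℚ) ^ (2 * g) = Q.eval ((a : ℚ) / (b : ℚ)))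
    (b : ℕ) (hb : 0 < b) (hlarge : (g : ℚ) + 1 < (v - u) * b) (j : ℕ) (hj : j ≤ g) :
    ∃ z : ℤ, (g.factorial : ℚ) * Q.coeff j * (b : ℚ) ^ (2 * g - j) = (z : ℚ) := by
  have hbq : (0 : ℚ) < (b : ℚ) := by exact_mod_cast hb
  have hb0 : (b : ℚ) ≠ 0 := ne_of_gt hbq
  set Pb : ℚ[X] := C ((b : ℚ) ^ (2 * g)) * Q.comp (C ((b : ℚ)⁻¹) * X) with hPb
  have hdeg : Pb.natDegree ≤ g := by
    refine (natDegree_C_mul_le _ _).trans ?_
    refine natDegree_comp_le.trans ?_
    have h1 : (C ((b : ℚ)⁻¹) * X : ℚ[X]).natDegree ≤ 1 :=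
      (natDegree_C_mul_le _ _).trans natDegree_X_le
    calc Q.natDegree * (C ((b : ℚ)⁻¹) * X : ℚ[X]).natDegree ≤ g * 1 := Nat.mul_le_mul hQ h1
      _ = g := mul_one g
  set m : ℤ := ⌊u * b⌋ + 1 with hm
  have hint : ∀ i : ℕ, i ≤ g → Pb.eval ((m : ℚ) + i) ∈ ZZ := by
    intro i hi
    have hiq : (i : ℚ) ≤ g := by exact_mod_cast hi
    have hi0 : (0 : ℚ) ≤ i := by positivity
    have hfl1 : u * b < (⌊u * b⌋ : ℚ) + 1 := Int.lt_floor_add_one _
    have hfl2 : (⌊u * b⌋ : ℚ) ≤ u * b := Int.floor_le _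
    have hmq : (m : ℚ) = (⌊u * b⌋ : ℚ) + 1 := by simp [hm]
    have ha1 : u < (((m + i : ℤ)) : ℚ) / (b : ℚ) := by
      rw [lt_div_iff₀ hbq]; push_cast; rw [hmq]; linarith
    have ha2 : (((m + i : ℤ)) : ℚ) / (b : ℚ) < v := by
      rw [div_lt_iff₀ hbq]; push_cast; rw [hmq]; nlinarith
    have h := hpoly (m + i) b hb ha1 ha2
    have hev : Pb.eval ((m : ℚ) + i) = (N (m + i) b : ℚ) := by
      rw [hPb, eval_mul, eval_C, eval_comp, eval_mul, eval_C, eval_X, inv_mul_eq_div]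
      have : (((m + i : ℤ)) : ℚ) = (m : ℚ) + i := by push_cast; ring
      rw [← this, ← h]
      field_simp
    rw [hev]
    exact ⟨(N (m + i) b : ℤ), by simp⟩
  obtain ⟨R, hR⟩ := lemmaA g Pb hdeg m hint
  refine ⟨R.coeff j, ?_⟩
  have hc := congrArg (fun p : ℚ[X] => p.coeff j) hR
  simp only [coeff_map, eq_intCast, coeff_C_mul, hPb, comp_C_mul_X_coeff] at hc
  rw [hc, pow_sub₀ _ hb0 (by omega : j ≤ 2 * g), inv_pow]
  ring

theorem core (g : ℕ) (u v : ℚ) (huv : u < v) (Q : ℚ[X]) (hQ : Q.natDegree ≤ g) (N : ℤ → ℕ → ℕ)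
    (hpoly : ∀ (a : ℤ) (b : ℕ), 0 < b → u < (a : ℚ) / (b : ℚ) → (a : ℚ) / (b : ℚ) < v →
      ((N a b : ℕ) : ℚ) / (b : ℚ) ^ (2 * g) = Q.eval ((a : ℚ) / (b : ℚ)))
    (j : ℕ) : ∃ z : ℤ, (g.factorial : ℚ) * Q.coeff j = (z : ℚ) := by
  by_cases hj : j ≤ g
  · have hvu : (0 : ℚ) < v - u := sub_pos.2 huv
    obtain ⟨b₀, hb₀⟩ := exists_nat_gt (((g : ℚ) + 1) / (v - u))
    have hg0 : (0 : ℚ) < ((g : ℚ) + 1) / (v - u) := by positivity
    have hb₀pos : (0 : ℚ) < b₀ := hg0.trans hb₀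
    have hb₀' : 0 < b₀ := by exact_mod_cast hb₀pos
    have hl0 : (g : ℚ) + 1 < (v - u) * b₀ := by
      rw [div_lt_iff₀ hvu] at hb₀; linarith
    have hl1 : (g : ℚ) + 1 < (v - u) * ((b₀ + 1 : ℕ) : ℚ) := by
      push_cast; nlinarith
    obtain ⟨z₁, hz₁⟩ := core_step g u v Q hQ N hpoly b₀ hb₀' hl0 j hj
    obtain ⟨z₂, hz₂⟩ := core_step g u v Q hQ N hpoly (b₀ + 1) (Nat.succ_pos _) hl1 j hj
    set e := 2 * g - j with he
    have hcop : Nat.Coprime (b₀ ^ e) ((b₀ + 1) ^ e) := Nat.Coprime.pow e e (by simp)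
    obtain ⟨s, t, hst⟩ := Nat.isCoprime_iff_coprime.2 hcop
    have hstq : (s : ℚ) * (b₀ : ℚ) ^ e + (t : ℚ) * ((b₀ : ℚ) + 1) ^ e = 1 := by
      exact_mod_cast hst
    refine ⟨s * z₁ + t * z₂, ?_⟩
    push_cast at hz₂ ⊢
    rw [← hz₁, ← hz₂]
    linear_combination (-((g.factorial : ℚ) * Q.coeff j)) * hstq
  · refine ⟨0, ?_⟩
    rw [coeff_eq_zero_of_natDegree_lt (lt_of_le_of_lt hQ (not_le.1 hj))]
    simp

end Groth.Agent.Lib27.Arith
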